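import Cfsg.Agent.H734.Fx.Torus
import Cfsg.Agent.H254.FxOddThree

/-!
# `PSL_3(q)`: fixity 3, point stabilizers of odd order (task 2280, S2993; helper734)
-/

set_option autoImplicit false
set_option linter.style.haveILetI false
set_option linter.unusedSectionVars false

namespace Cfsg.Agent.H734.Fx

open Matrix Subgroup
open Cfsg.Agent.H254.Fx Cfsg.Agent.H254.Ev

section gen

variable {G : Type*} [Group G] [Finite G] {H D : Subgroup G}

theorem mem_map_conj_iff {X : Subgroup G} {g x : G} :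
    x ∈ X.map (MulAut.conj g).toMonoidHom ↔ g⁻¹ * x * g ∈ X := by
  constructor
  · rintro ⟨y, hy, rfl⟩
    have : g⁻¹ * ((MulAut.conj g).toMonoidHom y) * g = y := by
      show g⁻¹ * (g * y * g⁻¹) * g = y
      group
    rwa [this]
  · intro h
    refine ⟨_, h, ?_⟩
    show g * (g⁻¹ * x * g) * g⁻¹ = x
    group

theorem odd3_conj (h : Odd3 H D) (g : G) :
    Odd3 (H.map (MulAut.conj g).toMonoidHom) (D.map (MulAut.conj g).toMonoidHom) := by
  refine ⟨h.hfix.conj g, ?_, h.ti.conj_map g, Subgroup.map_mono h.le, ?_, ?_⟩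
  · rw [card_map_eq (MulAut.conj g)]; exact h.odd
  · intro h1
    apply h.ntop
    rw [eq_top_iff]
    intro x _
    have h2 : g * x * g⁻¹ ∈ H.map (MulAut.conj g).toMonoidHom := by rw [h1]; trivial
    rw [mem_map_conj_iff] at h2
    have : g⁻¹ * (g * x * g⁻¹) * g = x := by group
    rwa [this] at h2
  · intro k hk x hx hx1 hkx
    rw [mem_map_conj_iff] at hk hx hkx ⊢
    refine h.self _ hk _ hx (fun h1 => hx1 ?_) ?_
    · have : x = g * (g⁻¹ * x * g) * g⁻¹ := by group
      rw [this, h1]; group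
    · have : g⁻¹ * k * g * (g⁻¹ * x * g) * (g⁻¹ * k * g)⁻¹ = g⁻¹ * (k * x * k⁻¹) * g := by group
      rwa [this]

end gen

variable {F : Type} [Field F] [Fintype F]

theorem coprime_six_of_mul {T d t : ℕ} (h : T * d = t ^ 2 + 3 * t + 3) (hd : d = Nat.gcd 3 t) : Nat.Coprime T 6 := by
  have h2 : ¬ 2 ∣ T := by
    intro h1
    have h3 : 2 ∣ t ^ 2 + 3 * t + 3 := h ▸ Dvd.dvd.mul_right h1 d
    have h4 : 2 ∣ t * (t + 1) := even_iff_two_dvd.1 (Nat.even_mul_succ_self t)
    have h5 : t ^ 2 + 3 * t + 3 = t * (t + 1) + 2 * (t + 1) + 1 := by ring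
    omega
  have h3 : ¬ 3 ∣ T := by
    rintro ⟨k, hk⟩
    have h4 : 3 ∣ t ^ 2 + 3 * t + 3 := h ▸ Dvd.dvd.mul_right ⟨k, hk⟩ d
    have h5 : 3 ∣ t ^ 2 := by
      have : t ^ 2 + 3 * t + 3 = t ^ 2 + 3 * (t + 1) := by ring
      rw [this] at h4
      exact (Nat.dvd_add_left (Dvd.intro _ rfl)).1 h4
    obtain ⟨m, hm⟩ := Nat.prime_three.dvd_of_dvd_pow h5
    have h6 : d = 3 := by rw [hd, hm]; exact Nat.gcd_mul_right_right 3 m |>.symm ▸ (by simp)
    rw [h6, hk, hm] at h
    have h7 : 3 * k * 3 = 9 * k := by ring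
    have h8 : (3 * m) ^ 2 + 3 * (3 * m) + 3 = 9 * (m ^ 2 + m) + 3 := by ring
    rw [h7, h8] at h
    omega
  have e2 : Nat.Coprime T 2 := (Nat.prime_two.coprime_iff_not_dvd.2 h2).symm
  have e3 : Nat.Coprime T 3 := (Nat.prime_three.coprime_iff_not_dvd.2 h3).symm
  exact Nat.Coprime.mul_right (k := T) (m := 2) (n := 3) e2 e3

/-- **task 2280** -/
theorem ex3_psl3 (F : Type) [Field F] [Fintype F] {H D : Subgroup (Matrix.ProjectiveSpecialLinearGroup (Fin 3) F)}
    (h : Odd3 H D) : IsCyclic H ∧ (Nat.card H).Coprime 6 ∧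
      Nat.card H * Nat.gcd 3 (Fintype.card F - 1) = Fintype.card F ^ 2 + Fintype.card F + 1 := by
  have hq : 1 < Fintype.card F := Fintype.one_lt_card
  obtain ⟨t, ht⟩ : ∃ t, Fintype.card F = t + 1 := ⟨Fintype.card F - 1, by omega⟩
  have ht0 : 0 < t := by omega
  obtain ⟨K, _, _, _, hK, hfr, ⟨b⟩⟩ := exists_ext F (e := 3) (by norm_num)
  have hT := card_range_tP b ht hfr hK
  have hTcop := coprime_six_of_mul hT rfl
  -- a prime `r` dividing `|D|`
  obtain ⟨r, hr, hrD⟩ : ∃ r : ℕ, r.Prime ∧ r ∣ Nat.card D :=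
    Nat.exists_prime_and_dvd fun h1 => h.ti.ne (Subgroup.eq_bot_of_card_eq D h1)
  have hfr' : Fact r.Prime := ⟨hr⟩
  obtain ⟨h5, hr0, hr1, hr2⟩ := prime_dvd h.ti hr hrD
  rw [ht, Nat.add_sub_cancel] at hr1
  rw [ht] at hr0 hr2
  have hcardK := card_psl3 ht
  have hrT : r ∣ t ^ 2 + 3 * t + 3 := by
    have h1 : r ∣ (t + 1) ^ 3 * (t * (t + 2)) * (t * (t ^ 2 + 3 * t + 3)) := by
      rw [← hcardK]
      exact Dvd.dvd.mul_left (hrD.trans (card_subgroup_dvd_card D)) _
    rcases hr.dvd_mul.1 h1 with h1 | h1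
    · rcases hr.dvd_mul.1 h1 with h1 | h1
      · exact absurd (hr.dvd_of_dvd_pow h1) hr0
      · rcases hr.dvd_mul.1 h1 with h1 | h1
        · exact absurd h1 hr1
        · exact absurd h1 hr2
    · rcases hr.dvd_mul.1 h1 with h1 | h1
      · exact absurd h1 hr1
      · exact h1
  -- scalars do not have order `r`
  have hns : ∀ a : NA F K, (a : Kˣ) ^ r = 1 → a ≠ 1 → ∀ c : F, ((a : Kˣ) : K) ≠ algebraMap F K c := by
    intro a har ha1 c hc
    have hc0 : c ≠ 0 := by
      rintro rfl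
      rw [map_zero] at hc
      exact Units.ne_zero _ hc
    have e1 : (a : Kˣ) ^ t = 1 := by
      apply Units.ext
      have h2 := FiniteField.pow_card_sub_one_eq_one c hc0
      rw [ht, Nat.add_sub_cancel] at h2
      rw [Units.val_pow_eq_pow_val, hc, ← map_pow, h2, map_one, Units.val_one]
    apply ha1
    apply Subtype.ext
    have e2 : orderOf (a : Kˣ) ∣ r := orderOf_dvd_of_pow_eq_one har
    rcases (Nat.dvd_prime hr).1 e2 with e3 | e3
    · exact orderOf_eq_one_iff.1 e3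
    · exact absurd (e3 ▸ orderOf_dvd_of_pow_eq_one e1) hr1
  obtain ⟨a, ha⟩ : ∃ a : NA F K, orderOf a = r :=
    exists_prime_orderOf_dvd_card' r (by rw [card_NA ht hK]; exact hrT)
  have har : a ^ r = 1 := by rw [← ha]; exact pow_orderOf_eq_one a
  have ha1 : a ≠ 1 := by
    rintro rfl
    rw [orderOf_one] at ha
    omega
  have hx : orderOf (tP b a) = r := by
    refine orderOf_eq_prime (by rw [← map_pow, har, map_one]) fun h1 => ?_
    obtain ⟨c, -, hc⟩ := tP_eq_one b h1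
    exact hns a (congrArg Subtype.val har) ha1 c hc
  obtain ⟨P, hP⟩ := h.ti.exists_sylow_le hr h5 hrD
  obtain ⟨g, hg⟩ := exists_conj_of_sylow_le hr hP hx
  -- conjugate
  obtain ⟨H', hH'⟩ : ∃ H' : Subgroup (Matrix.ProjectiveSpecialLinearGroup (Fin 3) F),
    H' = H.map (MulAut.conj g⁻¹).toMonoidHom := ⟨_, rfl⟩
  obtain ⟨D', hD'⟩ : ∃ D' : Subgroup (Matrix.ProjectiveSpecialLinearGroup (Fin 3) F),
    D' = D.map (MulAut.conj g⁻¹).toMonoidHom := ⟨_, rfl⟩
  have h' : Odd3 H' D' := by rw [hH', hD']; exact odd3_conj h g⁻¹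
  have hxD : tP b a ∈ D' := by
    rw [hD', mem_map_conj_iff, inv_inv]; exact hg
  have hx1 : tP b a ≠ 1 := by
    intro h1
    rw [h1, orderOf_one] at hx
    omega
  -- the torus is contained in `D'`
  have hle : (tP b).range ≤ D' := by
    rintro _ ⟨y, rfl⟩
    have h1 : tP b y * tP b a = tP b a * tP b y := by
      rw [← map_mul, ← map_mul]
      congr 1
      exact Subtype.ext (mul_comm (y : Kˣ) (a : Kˣ))
    refine h'.ti.mem_of_coprime (h'.ti.cent hxD hx1 h1) ?_
    exact Nat.Coprime.coprime_dvd_left (orderOf_dvd_card_of_mem (D := (tP b).range) (MonoidHom.mem_range.2 ⟨y, rfl⟩)) hTcop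
  -- `|D'|` divides the order of the torus
  have hcop : Nat.Coprime (Nat.card D') ((t + 1) ^ 3 * (t * (t + 2)) * t) := by
    refine Nat.coprime_of_dvd fun s hs hsD hs1 => ?_
    obtain ⟨-, hs2, hs3, hs4⟩ := prime_dvd h'.ti hs hsD
    rw [ht] at hs2 hs4
    rw [ht, Nat.add_sub_cancel] at hs3
    rcases hs.dvd_mul.1 hs1 with h1 | h1
    · rcases hs.dvd_mul.1 h1 with h1 | h1
      · exact hs2 (hs.dvd_of_dvd_pow h1)
      · rcases hs.dvd_mul.1 h1 with h1 | h1
        · exact hs3 h1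
        · exact hs4 h1
    · exact hs3 h1
  have hgpos : 0 < Nat.gcd 3 t := Nat.gcd_pos_of_pos_left _ (by norm_num)
  have hcardG : Nat.card (Matrix.ProjectiveSpecialLinearGroup (Fin 3) F) =
      (t + 1) ^ 3 * (t * (t + 2)) * t * Nat.card (tP b).range := by
    apply Nat.eq_of_mul_eq_mul_left hgpos
    rw [hcardK, ← hT]; ring
  have hdvd : Nat.card D' ∣ Nat.card (tP b).range := by
    refine hcop.dvd_of_dvd_mul_left ?_
    rw [← hcardG]
    exact card_subgroup_dvd_card D'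
  have hDT : D' = (tP b).range :=
    (Subgroup.eq_of_le_of_card_ge hle (Nat.le_of_dvd Nat.card_pos hdvd)).symm
  -- `H' = D'`
  have hHD : D' = H' := by
    by_contra hne
    have hrD' : r ∣ Nat.card D' := by
      rw [hD', card_map_eq (MulAut.conj g⁻¹)]; exact hrD
    have h3D : ¬ 3 ∣ Nat.card D' := not_three_dvd h'.ti
    obtain ⟨s, hs, -, -, y, Z, hyD, hy, -, hZ1, hZs, hZc, hyN, hfix⟩ := h'.exists_inv (by
      rw [hDT]
      rintro _ ⟨u, rfl⟩ _ ⟨v, rfl⟩
      rw [← map_mul, ← map_mul]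
      congr 1
      exact Subtype.ext (mul_comm (u : Kˣ) (v : Kˣ))) h3D hne hr h5 hrD'
    rw [hDT] at hyD
    obtain ⟨c, rfl⟩ := hyD
    let π : SpecialLinearGroup (Fin 3) F →* ProjectiveSpecialLinearGroup (Fin 3) F :=
      QuotientGroup.mk' (center (SpecialLinearGroup (Fin 3) F))
    have hπ1 : ∀ u, π u = 1 ↔ u ∈ center (SpecialLinearGroup (Fin 3) F) := fun u => QuotientGroup.eq_one_iff u
    have hπs : ∀ z, ∃ u, π u = z := QuotientGroup.mk'_surjective _
    have hπc : π (tS b c) = tP b c := rfl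
    obtain ⟨Q, hQ⟩ : ∃ Q : Subgroup (SpecialLinearGroup (Fin 3) F), Q = Z.comap π := ⟨_, rfl⟩
    have hQm : ∀ u, u ∈ Q ↔ π u ∈ Z := fun u => by rw [hQ]; exact Iff.rfl
    have hc1 : ∀ d : F, ((c : Kˣ) : K) ≠ algebraMap F K d := by
      intro d hd
      have h1 := tP_algebraMap b hd
      rw [h1, orderOf_one] at hy
      omega
    have key : Q ≤ center (SpecialLinearGroup (Fin 3) F) := by
      refine le_center (y := tS b c) hs hr h5 ?_ ?_ ?_ ?_ ?_ (irred b hfr hc1) ?_
      · intro u hu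
        rw [hQm, (hπ1 u).2 hu]
        exact one_mem _
      · intro u hu
        rw [← hπ1, map_pow]
        exact hZs _ ((hQm u).1 hu)
      · intro u hu v hv
        rw [← hπ1, map_mul, map_mul, map_mul, map_inv, map_inv, hZc _ ((hQm u).1 hu) _ ((hQm v).1 hv)]
        group
      · rw [mem_normalizer_iff]
        intro u
        show u ∈ Q ↔ tS b c * u * (tS b c)⁻¹ ∈ Q
        rw [hQm, hQm, map_mul, map_mul, map_inv, hπc]
        exact mem_normalizer_iff.1 hyN (π u)
      · rw [← hπ1, map_pow, hπc, ← hy]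
        exact pow_orderOf_eq_one _
      · intro u hu h1
        rw [← hπ1, map_mul, map_mul, map_mul, map_inv, map_inv, hπc] at h1
        rw [← hπ1]
        refine hfix _ ((hQm u).1 hu) ?_
        have h2 := mul_inv_eq_one.1 h1
        exact mul_inv_eq_iff_eq_mul.1 h2
    apply hZ1
    rw [eq_bot_iff]
    intro z hz
    obtain ⟨u, rfl⟩ := hπs z
    rw [mem_bot, hπ1]
    exact key ((hQm u).2 hz)
  -- conclusion
  have hcardH : Nat.card H = Nat.card (tP b).range := by
    rw [← hDT, hHD, hH', card_map_eq (MulAut.conj g⁻¹)]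
  refine ⟨?_, ?_, ?_⟩
  · have h1 : IsCyclic H' := by rw [← hHD, hDT]; exact isCyclic_range_tP b
    have e : H ≃* H' := by
      rw [hH']
      exact H.equivMapOfInjective _ (MulAut.conj g⁻¹).injective
    exact isCyclic_of_surjective e.symm e.symm.surjective
  · rw [hcardH]; exact hTcop
  · rw [hcardH, ht, Nat.add_sub_cancel, hT]; ring

end Cfsg.Agent.H734.Fx
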